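import Cfsg.Agent.Spor.LyN1.D0

set_option autoImplicit false
set_option maxRecDepth 100000000
set_option Elab.async false

namespace Cfsg.Agent.Spor.LyN1

theorem ok0 : Net.okb 1 n0 = true := by decide +kernel

theorem ok1 : Net.okb 1 n1 = true := by decide +kernel

theorem ok2 : Net.okb 1 n2 = true := by decide +kernel

theorem ok3 : Net.okb 1 n3 = true := by decide +kernel

theorem ok4 : Net.okb 1 n4 = true := by decide +kernel

theorem rel0 : T.rel 1 [1, 1, 1, 1, 1, 1, 1, 1] 0 1 = true := by decide +kernel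

theorem rel1 : T.rel 1 [2, 2, 2, 2, 2] 0 1 = true := by decide +kernel

theorem rel2 : T.rel 1 [2, 1, 2, 1, 2, 1, 2, 1] 0 1 = true := by decide +kernel

theorem rel3 : T.rel 1 [2, 1, 1, 7, 6, 6] 0 1 = true := by decide +kernel

theorem rel4 : T.rel 1 [2, 1, 7, 6, 2, 1, 7, 6, 2, 1, 7, 6] 0 1 = true := by decide +kernel

theorem rel5 : T.rel 1 [3, 3, 3, 3, 3] 0 1 = true := by decide +kernel

theorem rel6 : T.rel 1 [1, 3, 6, 3, 1, 8, 6, 8, 1, 3, 6, 3, 1, 8, 6, 8, 1, 3, 6, 3, 1, 8, 6, 8, 1, 3, 6, 3, 1, 8, 6, 8, 1, 3, 6, 3, 1, 8, 6, 8] 0 1 = true := by decide +kernel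

theorem rel7 : T.rel 1 [1, 3, 6, 3, 1, 8, 6, 3, 1, 3, 6, 8, 1, 8, 6, 8] 0 1 = true := by decide +kernel

theorem rel8 : T.rel 1 [1, 3, 6, 3, 1, 8, 6, 8, 1, 3, 6, 3, 1, 3, 6, 8, 1, 8, 8, 6] 0 1 = true := by decide +kernel

theorem rel9 : T.rel 1 [1, 3, 6, 3, 1, 8, 6, 8, 2, 3, 7, 3, 1, 3, 6, 8, 1, 8, 6, 2, 8, 7] 0 1 = true := by decide +kernel

theorem rel10 : T.rel 1 [1, 3, 6, 3, 1, 8, 6, 8, 7, 3, 2, 3, 1, 3, 6, 8, 1, 8, 6, 7, 8, 2] 0 1 = true := by decide +kernel

theorem rel11 : T.rel 1 [1, 3, 6, 3, 1, 8, 6, 8, 1, 3, 6, 3, 1, 8, 6, 8, 2, 3, 7, 3, 2, 8, 7, 8] 0 1 = true := by decide +kernel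

theorem rel12 : T.rel 1 [3, 1, 3, 6, 8, 1, 8, 6, 3, 1, 3, 6, 8, 1, 8, 6, 7, 3, 2, 3, 7, 8, 2, 8] 0 1 = true := by decide +kernel

theorem rel13 : T.rel 1 [1, 3, 6, 3, 1, 8, 6, 8, 2, 3, 7, 1, 3, 6, 2, 8, 7, 1, 8, 6] 0 1 = true := by decide +kernel

theorem rel14 : T.rel 1 [7, 3, 2, 1, 3, 6, 7, 8, 2, 1, 8, 6] 0 1 = true := by decide +kernel

theorem rel15 : T.rel 1 [1, 3, 6, 3, 1, 8, 6, 8, 7, 3, 2, 2, 3, 7, 7, 8, 2, 2, 8, 7] 0 1 = true := by decide +kernel

theorem rel16 : T.rel 1 [3, 3, 1, 1, 3, 6, 6] 0 1 = true := by decide +kernel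

theorem rel17 : T.rel 1 [2, 3, 3, 7, 8, 7, 8, 2, 1, 2, 3, 7, 6] 0 1 = true := by decide +kernel

theorem rel18 : T.rel 1 [8, 1, 3, 6, 2, 3, 7, 7, 8, 2, 8, 7, 8, 2, 1, 7, 3, 2, 6] 0 1 = true := by decide +kernel

theorem rel19 : T.rel 1 [3, 1, 3, 6, 8, 1, 8, 6, 3, 1, 3, 6, 8, 1, 8, 1, 3, 6, 3, 1, 8, 6, 8, 6] 0 1 = true := by decide +kernel

theorem rel20 : T.rel 1 [1, 8, 6, 2, 8, 7, 7, 3, 2, 3, 7, 3, 2, 2, 1, 3, 6, 7] 0 1 = true := by decide +kernel

theorem rel21 : T.rel 1 [8, 8, 7, 8, 2, 2, 3, 3, 2, 3, 7, 7] 0 1 = true := by decide +kernel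

theorem rel22 : T.rel 1 [3, 1, 3, 6, 8, 1, 8, 6, 2, 1, 3, 6, 3, 1, 8, 6, 8, 7] 0 1 = true := by decide +kernel

theorem rel23 : T.rel 1 [4, 3, 4, 7, 1, 2, 3, 4, 1, 3, 6, 3, 1, 8, 6, 7, 7, 4, 3, 4, 7, 1, 2, 3, 4, 1, 3, 6, 3, 1, 8, 6, 7, 7] 0 1 = true := by decide +kernel

theorem rel24 : T.rel 1 [8, 7, 7, 3, 4, 3, 4, 7, 1, 2, 3, 4, 1, 3, 6, 3, 1, 8, 6, 7, 7, 3, 2, 2, 1, 3, 6, 8, 1, 8, 6, 9, 8, 7, 6, 2, 9, 8, 9] 0 1 = true := by decide +kernel

theorem rel25 : T.rel 1 [7, 7, 8, 6, 3, 7, 3, 2, 1, 4, 3, 4, 7, 1, 2, 3, 4, 1, 3, 6, 3, 1, 8, 6, 7, 3, 2, 1, 3, 6, 8, 1, 8, 6, 9, 8, 7, 6, 2, 9, 8, 9] 0 1 = true := by decide +kernel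

theorem rel26 : T.rel 1 [7, 3, 7, 7, 8, 2, 4, 3, 4, 7, 1, 2, 3, 4, 1, 3, 6, 3, 1, 8, 6, 7, 7, 7, 3, 2, 2, 2, 1, 3, 6, 8, 1, 8, 6, 9, 8, 7, 6, 2, 9, 8, 9] 0 1 = true := by decide +kernel

theorem rel27 : T.rel 1 [8, 2, 3, 7, 8, 7, 3, 2, 4, 3, 4, 7, 1, 2, 3, 4, 1, 3, 6, 3, 1, 8, 6, 7, 7, 1, 3, 6, 3, 1, 8, 6, 8, 2, 2, 1, 3, 6, 8, 1, 8, 6, 9, 8, 7, 6, 2, 9, 8, 9] 0 1 = true := by decide +kernel

theorem rel28 : T.rel 1 [6, 7, 7, 6, 2, 3, 6, 8, 1, 8, 6, 7, 3, 2, 4, 3, 4, 7, 1, 2, 3, 4, 1, 3, 6, 3, 1, 8, 6, 7, 7, 1, 1, 4, 3, 4, 7, 1, 2, 3, 4, 1, 3, 6, 3, 1, 8, 6, 7, 7] 0 1 = true := by decide +kernel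

theorem rel29 : T.rel 1 [8, 2, 3, 7, 7, 3, 3, 2, 4, 3, 4, 7, 1, 2, 3, 4, 1, 3, 6, 3, 1, 8, 6, 2, 1, 3, 6, 8, 1, 8, 6, 9, 8, 7, 6, 2, 9, 8, 9] 0 1 = true := by decide +kernel

theorem rel30 : T.rel 1 [6, 3, 6, 8, 1, 8, 6, 7, 3, 2, 4, 3, 4, 7, 1, 2, 3, 4, 1, 3, 6, 3, 1, 8, 6, 7, 7, 1, 7, 1, 2, 2, 1, 4, 3, 4, 7, 1, 2, 3, 4, 1, 3, 6, 3, 1, 8, 6, 7, 7] 0 1 = true := by decide +kernel

theorem rel31 : T.rel 1 [1, 1, 1, 2, 3, 7, 1, 7, 8, 2, 1, 3, 6, 4, 3, 4, 7, 1, 2, 3, 4, 1, 3, 6, 3, 1, 8, 6, 7, 7, 1, 8, 6, 4, 3, 4, 7, 1, 2, 3, 4, 1, 3, 6, 3, 1, 8, 6, 7, 7, 1, 3, 6, 4, 3, 4, 7, 1, 2, 3, 4, 1, 3, 6, 3, 1, 8, 6, 7, 7] 0 1 = true := by decide +kernel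

theorem rel32 : T.rel 1 [6, 7, 7, 1, 2, 3, 7, 3, 2, 1, 3, 6, 3, 1, 8, 6, 8, 6, 2, 2, 1, 3, 6, 8, 1, 8, 6, 9, 8, 7, 6, 2, 9, 8, 9, 6, 2, 2, 1, 3, 6, 8, 1, 8, 6, 9, 8, 7, 6, 2, 9, 8, 9, 3, 6, 2, 1, 3, 6, 8, 1, 8, 6, 9, 8, 7, 6, 2, 9, 8] 0 1 = true := by decide +kernel

theorem rel33 : T.rel 1 [6, 6, 6, 6, 4, 4] 0 1 = true := by decide +kernel

theorem rel34 : T.rel 1 [4, 2, 9, 7] 0 1 = true := by decide +kernel

theorem rel35 : T.rel 1 [6, 6, 6, 4, 1, 9] 0 1 = true := by decide +kernel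

theorem rel36 : T.rel 1 [1, 3, 6, 3, 1, 8, 6, 8, 4, 1, 3, 6, 3, 1, 8, 6, 8, 4, 1, 3, 6, 3, 1, 8, 6, 8, 4, 1, 3, 6, 3, 1, 8, 6, 8, 4, 1, 3, 6, 3, 1, 8, 6, 8, 4] 0 1 = true := by decide +kernel

theorem rel37 : T.rel 1 [6, 3, 6, 3, 1, 8, 6, 8, 4, 3, 1, 3, 6, 8, 1, 8, 6, 4, 1, 3, 6, 3, 1, 8, 6, 8, 4] 0 1 = true := by decide +kernel

theorem rel38 : T.rel 1 [1, 2, 1, 7, 3, 2, 6, 3, 7, 6, 5, 3, 10] 0 1 = true := by decide +kernel

theorem rel39 : T.rel 1 [2, 2, 6, 8, 1, 7, 8, 7, 5, 1, 3, 6, 10] 0 1 = true := by decide +kernel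

theorem rel40 : T.rel 1 [1, 2, 1, 8, 6, 7, 6, 5, 2, 3, 7, 10] 0 1 = true := by decide +kernel

theorem rel41 : T.rel 1 [2, 1, 7, 8, 2, 6, 7, 5, 7, 3, 2, 10] 0 1 = true := by decide +kernel

theorem rel42 : T.rel 1 [7, 7, 1, 2, 8, 7, 6, 8, 2, 2, 3, 5, 1, 3, 6, 3, 1, 8, 6, 8, 10] 0 1 = true := by decide +kernel

theorem rel43 : T.rel 1 [1, 1, 1, 5, 1, 10] 0 1 = true := by decide +kernel

theorem rel44 : T.rel 1 [7, 1, 2, 1, 1, 5, 7, 1, 2, 10] 0 1 = true := by decide +kernel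

theorem rel45 : T.rel 1 [6, 7, 7, 6, 2, 2, 1, 5, 7, 7, 1, 2, 2, 10] 0 1 = true := by decide +kernel

theorem rel46 : T.rel 1 [6, 6, 5, 5] 0 1 = true := by decide +kernel

theorem rel47 : T.rel 1 [1, 1, 5, 2, 2, 1, 7, 7, 5, 2, 2, 1, 7, 7, 5, 2, 2, 1, 7, 7] 0 1 = true := by decide +kernel

theorem rel48 : T.rel 1 [5, 7, 7, 6, 7, 8, 7, 7, 3, 1, 8, 6, 9, 8, 1, 7, 8, 1, 9, 8, 6, 5, 7, 1, 2, 1, 7, 1, 8, 6, 7, 8, 2, 9, 8, 2, 6, 8, 7, 4, 6, 5, 9, 8, 2, 6, 8, 6, 9, 8] 0 1 = true := by decide +kernel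

theorem rel49 : T.rel 1 [3, 2, 3, 4, 7, 7, 3, 4, 7, 3, 2, 3, 1, 8, 2, 2, 6, 2, 2, 6, 2, 1, 5, 4, 5, 7, 1, 7, 7, 1, 7, 8, 7, 6, 2, 9, 8, 7, 6, 2, 9, 8, 6, 10, 9, 10] 0 1 = true := by decide +kernel

theorem rel50 : T.rel 1 [6, 2, 6, 7, 7, 6, 3, 6, 7, 1, 9, 8, 6, 3, 2, 3, 1, 9, 10, 7, 6, 2, 1, 2, 2, 1, 2, 8, 7, 7, 8, 7, 9, 8, 2, 2, 9, 8, 7, 8, 10, 9, 7, 3, 6, 3, 1, 3, 4, 8, 8, 6, 2, 8, 2, 3, 6, 7, 7, 1, 5, 3, 2, 3, 4, 7, 7, 3, 4, 2, 3, 2, 2, 3, 7, 6, 7, 7, 6, 7, 1, 2, 5] 0 1 = true := by decide +kernel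

theorem rel51 : T.rel 1 [2, 6, 7, 6, 7, 3, 1, 3, 6, 3, 9, 8, 2, 3, 6, 8, 10, 7, 9, 10, 2, 3, 6, 2, 2, 8, 4, 8, 6, 3, 1, 8, 2, 2, 6, 7, 6, 2, 2, 5, 4, 2, 5] 0 1 = true := by decide +kernel

theorem rel52 : T.rel 1 [3, 1, 4, 5] 0 1 = true := by decide +kernel

theorem hcov : T.treeCov (ones 1) L 1 = true := by decide +kernel

theorem hg : lall (fun z => band (memL L z) (band (sub (ones 1) (T.let z).cl) (T.closed (ones 1) z))) gs = true := by decide +kernel

theorem hivk : ivOk (2 * 0) EX IV = true := by decide +kernel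

theorem hrt : RT.ok (2 * 0) EX RL = true := by decide +kernel

theorem hdefs : defs F 100 = true := by decide +kernel

noncomputable def st0_l : List Nat := [nat_lit 0x140000100002c03, nat_lit 0x240000100000003, nat_lit 0x2c0000200002403, nat_lit 0x340000300004c03, nat_lit 0x440000400000003, nat_lit 0x480000400003403, nat_lit 0x540000500004c03, nat_lit 0x400026000d40002a00013405, nat_lit 0xc40000c000028000a404, nat_lit 0xcc0000e000038000dc04, nat_lit 0x6e0000900000003, nat_lit 0x360001bc001ba000010000180007406, nat_lit 0x6f0001b002, nat_lit 0x700000a00007403, nat_lit 0x1c000028000020000480010c05, nat_lit 0x1c00002800002000048000fc05, nat_lit 0x1c000028000020000580015405, nat_lit 0x1c800028000020000280009c05, nat_lit 0x740006480016403, nat_lit 0x760000a00008403, nat_lit 0x780003880039403, nat_lit 0x780006480013403, nat_lit 0x1e000028000020000000032805, nat_lit 0x1a8001a800054000268003c805, nat_lit 0x1e800028000020000680016c05, nat_lit 0x880000c00009403,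 nat_lit 0x1500009a000f20007a8003e805, nat_lit 0x24800112000fb0007a0003d805, nat_lit 0x7f00024800030000020000000034006, nat_lit 0x130000aa000d5000358003f805, nat_lit 0x1020002600015c03, nat_lit 0x1040004900022403, nat_lit 0x2580012600102000790003d405, nat_lit 0x25800112000fc0006a80038005, nat_lit 0x900004b80042403, nat_lit 0x4700025c00216000e10006a00015006, nat_lit 0x580008700023803, nat_lit 0x8800016002, nat_lit 0x92000880003b003, nat_lit 0x8a00024802, nat_lit 0x8a00041402, nat_lit 0x8a0003fc02, nat_lit 0x8a00040802, nat_lit 0xf00007a80042003, nat_lit 0x1480009a000f20007a80042005, nat_lit 0x474001e4000f50008400042c05, nat_lit 0x3d4002100010b0007080033805, nat_lit 0x374001ae000f20007a80042005, nat_lit 0x4e0008900022c03, nat_lit 0x4400045800236000f7000928000d006, nat_lit 0x380009500022003, nat_lit 0xfd000958000ec03, nat_lit 0x107000958000f403, nat_lit 0x960000e002, nat_lit 0x9700015002, nat_lit 0x9700035402, nat_lit 0x970003a002, nat_lit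 0x9800046002, nat_lit 0x11a0009180038803, nat_lit 0x8d0001d000028000020000780019c06, nat_lit 0xe800264001160008d8004fc05, nat_lit 0x4840012c001160008d8004fc05, nat_lit 0x11e0002100011c03, nat_lit 0x340009900024403, nat_lit 0x42000216000e10009b00050405, nat_lit 0x10000054000e20013c0009f80050806, nat_lit 0x1e0000f60009f80036c04, nat_lit 0xa600047c02, nat_lit 0xa600039002, nat_lit 0xa600010802, nat_lit 0x294000200000c80023404, nat_lit 0x74000388005400006c001320008b0001d007, nat_lit 0x70000ab00045c03, nat_lit 0x76000ab00048c03, nat_lit 0x78000ab0004e803, nat_lit 0x11a000ab80005003, nat_lit 0x151000ac8004cc03, nat_lit 0x118001580009e00057c04, nat_lit 0xe6000ac80044c03, nat_lit 0x90000ac0004e003, nat_lit 0xac00038c02, nat_lit 0xee000ad8005a003, nat_lit 0xae00049402, nat_lit 0x2b8000f6000af80006c04, nat_lit 0x16e000ae0001e003, nat_lit 0x100000af80006403, nat_lit 0x13e000af80000803, nat_lit 0x22000af0001a803, nat_lit 0x5800006c001600006d0005d405,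 nat_lit 0x29c00161000bc80002c04, nat_lit 0x38002f0001600001b0005e405, nat_lit 0x2000178000b000054c04, nat_lit 0x155000b180006403, nat_lit 0x135000b20000f803, nat_lit 0x8000182000b300043404, nat_lit 0x51c002ce00183000228005cc05, nat_lit 0xb500008002, nat_lit 0x3000014a000b580006004, nat_lit 0xb70005b40030e0018b000118005dc06, nat_lit 0x628000300018a000b900034405, nat_lit 0x29200175000088005fc04, nat_lit 0x1760001100063c03, nat_lit 0x50000bd00051403, nat_lit 0x127000bd80032003, nat_lit 0xbe00003802, nat_lit 0xbf0001a402, nat_lit 0x64c0031c0018a000c000014805, nat_lit 0x19a000c10004d403, nat_lit 0x8c001820009b80067404, nat_lit 0x9400190000c200010004, nat_lit 0x18e000c500022c03, nat_lit 0x31c0018a000c480063c04, nat_lit 0x18e000c500044c03, nat_lit 0x18e000c500025403, nat_lit 0x2e00018d000ce80002804, nat_lit 0x1a4000c700005c03, nat_lit 0x1aa000c700007c03, nat_lit 0x1a0000ca00014003, nat_lit 0x1ac000cb00037403, nat_lit 0xce00064c02, nat_lit 0xcf00066802,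 nat_lit 0xd000011802, nat_lit 0xd100012802, nat_lit 0x72000d680001403, nat_lit 0x7a000d680003403, nat_lit 0xd600032402, nat_lit 0xd70004a002, nat_lit 0xd700069002, nat_lit 0xd80006a802, nat_lit 0x30000df0003ac03, nat_lit 0x60000e00003e403, nat_lit 0xe50000c002, nat_lit 0xe600018002, nat_lit 0x1b8000d400069c0000200199000000006980000200198000000006d800376001bd000dd0006c800376001bc000dd0006cc00350001a70000080066400000001a6000008006601b, nat_lit 0x1b9000e98006d403, nat_lit 0xcd000e980001403, nat_lit 0x48000e980003403, nat_lit 0xe900002002, nat_lit 0x4e000ea80071803, nat_lit 0xea00070802, nat_lit 0xea0006a002, nat_lit 0xea00002802, nat_lit 0xeb0000b002, nat_lit 0xec00034c02, nat_lit 0xee00071002, nat_lit 0x4200071c0036800000000e30001f406, nat_lit 0xf500021002, nat_lit 0x82000f48007b003, nat_lit 0x1f0003d20007d000f68001f405, nat_lit 0x2e000f280073803, nat_lit 0x73c0004e001cf000f200073805, nat_lit 0x744000b6001d1000f300074005, nat_lit 0x860003e8007c003,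 nat_lit 0x1f4000130000cc03, nat_lit 0x1f60002d00019403, nat_lit 0x208003d80007c000f60007e005, nat_lit 0x208000fa001ed0003e8007e005, nat_lit 0x7e80004c001ce000130000bc05, nat_lit 0x7e80039e00027000e78000bc05, nat_lit 0x7f0000b4001d00002d00017c05, nat_lit 0x7f0003a20005b000e880017c05, nat_lit 0x400001f4003da00087000ff00080406, nat_lit 0x1500009c0039e000330010280080806, nat_lit 0x2e00016c003a2000650010480081806, nat_lit 0x82c0010c000810010580021805, nat_lit 0x414002110004080084404, nat_lit 0x201001098001f403, nat_lit 0x10900021802, nat_lit 0x10a0007bc02, nat_lit 0x834000640002b001068000c805, nat_lit 0x4180021b0001580086c04, nat_lit 0x2020010e80009c03, nat_lit 0x10e0000c802, nat_lit 0x10f0007cc02, nat_lit 0x83c000c80005d0010780019005, nat_lit 0x41c002250002e80089404, nat_lit 0x11300019002, nat_lit 0x1c9000e300085c003d000217000f400071c0000200005001108007900004e00223000130008840004e00222000130000100001a00228000060000140004e00223000130008800004e0022200013000794004400000400000000718003d200216000f480085827,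 nat_lit 0x7e0011500072403, nat_lit 0x1160001f802, nat_lit 0x62000f38008a0003ce002280000600001400442001e40011080079000008001b5000e300085c003d00007d0010c8001f00042e0007d0010c0001f00038e0022f0010b0008b80038c0007d0010c8001f00042c0007d0010c0001f0003d200216000e38006d027, nat_lit 0x630011880001403, nat_lit 0x1b000231000068008cc04, nat_lit 0x468000280011900003004, nat_lit 0x11b00001002, nat_lit 0x1ed0011700069c003c000001000cc8000000034e00001000cc0000000045e0007d0010c8001f00042c0007d0010c0001f0003d200216000e38006d000470001db000cc00076c0047200198000cc0008e000470001980011c800664003b400199000ed0008e427, nat_lit 0x1ec0011d8006d403, nat_lit 0x11e00071c02, nat_lit 0xed8006600047200198000f1000780003be001b5000d38007800047e000010011c000664003b400239000da8008f80034e0023e000da0008e000470000000011f00078c003b6001de000da0008e40036a0023f0011f8000040047200239000cc8000000034c0023f000d30008f8003c2001a60011f0008f82e, nat_lit 0x80090402, nat_lit 0x26800130002430012180026405,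 nat_lit 0x28000136002450004d80091405, nat_lit 0xa20004d80091403, nat_lit 0xa80004d00029403, nat_lit 0x2a00048a0009b0012280026c05, nat_lit 0x2a00048a0009b0012280028405, nat_lit 0x2a000134002440004d00028405, nat_lit 0x24a0012780094003, nat_lit 0xa20012300093803, nat_lit 0xaa0012600094403, nat_lit 0x2a800134002440004d00028c05, nat_lit 0x2a80048a0009b0012280028c05, nat_lit 0xae0012280028403, nat_lit 0x24e0012880097003, nat_lit 0x928004a20024e0012880097005, nat_lit 0x9280049e002500012780097005, nat_lit 0x4f00026c0048a000a50013180098006, nat_lit 0x994001480009f0013280029005, nat_lit 0x4c8002670004f80099c04, nat_lit 0x2600013480026c03, nat_lit 0x13400029002, nat_lit 0x2520013480028c03, nat_lit 0xa6001350002b803, nat_lit 0xaa0013500097803, nat_lit 0x13700093402, nat_lit 0x13700095002, nat_lit 0x1370002a002, nat_lit 0x13800029802, nat_lit 0x13900096402, nat_lit 0x13900095c02, nat_lit 0x13900096c02, nat_lit 0x27d0013c8009e80048a0026d001220009ec0048a0026c001220009d0005000027f001408009d8005000027e001408009dc004f20027a001228009b4004880027b001228009b01b,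 nat_lit 0x27c0014180026c03, nat_lit 0x14100028002, nat_lit 0x14200092402, nat_lit 0x990014300026003, nat_lit 0x9c0014300027403, nat_lit 0x2b0005120009800121000264005100009a001220002b409, nat_lit 0x51e000ac0004d0002600048600099001220002b40051e000ac0004d0002600c, nat_lit 0xad0014880026403, nat_lit 0x14900026802, nat_lit 0x2c000138002940014a00027405, nat_lit 0x2c000518000b10014b8002c405, nat_lit 0xb400146000a5803, nat_lit 0xb600058800a6003, nat_lit 0x2d00052c000b00014b000a7005, nat_lit 0x2d0001620029700058800a7005, nat_lit 0x590002c40052e000b70014f000a8406, nat_lit 0xa8c0016c000b3001518002d805, nat_lit 0x544002a500059800a9404, nat_lit 0x2a1001538002c403, nat_lit 0x1530002d802, nat_lit 0x154000a6c02, nat_lit 0x1320026d0004e800aa8005540009c0014a000274005540009c0014a8002600c, nat_lit 0x2ab00146800aac0051a0009c0014a000274005560028d00058800ab400160002ab00058800ab0001600009c0004c000ab8001320009d00058800ab400160002aa00058800ab0001600028c001550002700052a0009d00146000aa800518002aa0004e00026027,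 nat_lit 0x15800027002, nat_lit 0x28600136800a1800130002430004c8009b40050c0029400136800a54004da0029400136000a540013000243001570009080055e002430015780090800514002af00159800a54005640028a00157800a28005660026c00136000ac8001320026c0004c000ab827, nat_lit 0x4c800ad402, nat_lit 0xc40005d0002e003, nat_lit 0x24300121800ae003, nat_lit 0xae8004840024200121000aec05, nat_lit 0x31400578002bc0015e000af005, nat_lit 0x610003140057a000c40005d0002fc06, nat_lit 0x16000030802, nat_lit 0x15e800af40057a002be0005d00030406, nat_lit 0x2bf0016280030003, nat_lit 0x586002c70005d800b1c04, nat_lit 0x1640002f802, nat_lit 0x12180090c00172002ca001650002f406, nat_lit 0x2f400598000b90005e800b3005, nat_lit 0x5c800b3c02, nat_lit 0xc60015b80031c03, nat_lit 0xc600121000b4003, nat_lit 0x31800486002430012180090c05, nat_lit 0x31800486002430012180031c05, nat_lit 0x2d800169000b60005aa002b700168000ad8005a8002d900169800b640b, nat_lit 0x169800b68005a4002d900169000b6c005a6002d90016d000b60005ae002d100063800b48005b2002d30016d000b5c00486002d100121000b4400486002d000121000ad80056c00243001680009080018e002da0016b800ad800486002b70016880031c005b2002da0016c000b68005b2002db0016c000b48005a4002d90016d000b60005ae002d100063800b48005b2002d30016d000b5c00486002d100121000b4400486002d000121000ad80056c002430012180090c46,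 nat_lit 0x63800b7402]
theorem st0 : band (steps F IV RT base st0_l 100) (Nat.beq (Nat.add 100 (llen st0_l)) 368) = true := by decide +kernel

theorem ep0a : T.treePath [] (Nat.shiftLeft 1 0) 1 = true := by decide +kernel

theorem ep0b : T.treePath [] (Nat.shiftLeft 1 0) 1 = true := by decide +kernel

theorem ep0c : band (lall (fun z => Nat.ble z 255) ([] ++ 1 :: [])) (concl F IV 368 0x90801 (encA ([] ++ 1 :: []) 0)) = true := by decide +kernel

theorem ep0d : band (Rule.ok (2 * 0) EX [] ⟨lapp [] [], [], 0, false⟩) (band (lall (memL L) []) (lall (memL L) [])) = true := by decide +kernel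

theorem cov1 : T.cover 1 [(Nat.shiftLeft 1 0)] = true := by decide +kernel

theorem tl1 : Nat.beq (T.let 1).tt 0 = true := by decide +kernel

theorem ep1a : T.treePath [] (Nat.shiftLeft 1 0) 1 = true := by decide +kernel

theorem ep1b : T.treePath [] (Nat.shiftLeft 1 0) 1 = true := by decide +kernel

theorem ep1c : band (lall (fun z => Nat.ble z 255) ([] ++ 2 :: [])) (concl F IV 368 0xad801 (encA ([] ++ 2 :: []) 0)) = true := by decide +kernel

theorem ep1d : band (Rule.ok (2 * 0) EX [] ⟨lapp [] [], [], 0, false⟩) (band (lall (memL L) []) (lall (memL L) [])) = true := by decide +kernel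

theorem cov2 : T.cover 2 [(Nat.shiftLeft 1 0)] = true := by decide +kernel

theorem tl2 : Nat.beq (T.let 2).tt 0 = true := by decide +kernel

theorem ep2a : T.treePath [] (Nat.shiftLeft 1 0) 1 = true := by decide +kernel

theorem ep2b : T.treePath [] (Nat.shiftLeft 1 0) 1 = true := by decide +kernel

theorem ep2c : band (lall (fun z => Nat.ble z 255) ([] ++ 3 :: [])) (concl F IV 368 0xb4001 (encA ([] ++ 3 :: []) 0)) = true := by decide +kernel

theorem ep2d : band (Rule.ok (2 * 0) EX [] ⟨lapp [] [], [], 0, false⟩) (band (lall (memL L) []) (lall (memL L) [])) = true := by decide +kernel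

theorem cov3 : T.cover 3 [(Nat.shiftLeft 1 0)] = true := by decide +kernel

theorem tl3 : Nat.beq (T.let 3).tt 0 = true := by decide +kernel

theorem ep3a : T.treePath [] (Nat.shiftLeft 1 0) 1 = true := by decide +kernel

theorem ep3b : T.treePath [] (Nat.shiftLeft 1 0) 1 = true := by decide +kernel

theorem ep3c : band (lall (fun z => Nat.ble z 255) ([] ++ 4 :: [])) (concl F IV 368 0xb7801 (encA ([] ++ 4 :: []) 0)) = true := by decide +kernel

theorem ep3d : band (Rule.ok (2 * 0) EX [] ⟨lapp [] [], [], 0, false⟩) (band (lall (memL L) []) (lall (memL L) [])) = true := by decide +kernel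

theorem cov4 : T.cover 4 [(Nat.shiftLeft 1 0)] = true := by decide +kernel

theorem tl4 : Nat.beq (T.let 4).tt 0 = true := by decide +kernel

theorem rot5_1 : T.rot 5 [3, 1, 4] (sel (ones 1) ip5 1) = true := by decide +kernel

theorem rot5_1r : band (Rule.ok (2 * 0) EX RL ⟨5 :: [3, 1, 4], [8], 52, true⟩) (lall (memL L) [3, 1, 4]) = true := by decide +kernel

theorem cov5 : T.cover 5 [(sel (ones 1) ip5 1)] = true := by decide +kernel

theorem tl5 : Nat.beq (T.let 5).tt 0 = true := by decide +kernel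

theorem rot6_1 : T.rot 6 [1] (sel (ones 1) ip6 1) = true := by decide +kernel

theorem rot6_1r : band (Rule.ok (2 * 0) EX RL ⟨6 :: [1], [], 53, false⟩) (lall (memL L) [1]) = true := by decide +kernel

theorem cov6 : T.cover 6 [(sel (ones 1) ip6 1)] = true := by decide +kernel

theorem tl6 : Nat.beq (T.let 6).tt 0 = true := by decide +kernel

theorem rot7_1 : T.rot 7 [2] (sel (ones 1) ip7 1) = true := by decide +kernel

theorem rot7_1r : band (Rule.ok (2 * 0) EX RL ⟨7 :: [2], [], 53, false⟩) (lall (memL L) [2]) = true := by decide +kernel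

theorem cov7 : T.cover 7 [(sel (ones 1) ip7 1)] = true := by decide +kernel

theorem tl7 : Nat.beq (T.let 7).tt 0 = true := by decide +kernel

theorem rot8_1 : T.rot 8 [3] (sel (ones 1) ip8 1) = true := by decide +kernel

theorem rot8_1r : band (Rule.ok (2 * 0) EX RL ⟨8 :: [3], [], 53, false⟩) (lall (memL L) [3]) = true := by decide +kernel

theorem cov8 : T.cover 8 [(sel (ones 1) ip8 1)] = true := by decide +kernel

theorem tl8 : Nat.beq (T.let 8).tt 0 = true := by decide +kernel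

theorem rot9_1 : T.rot 9 [4] (sel (ones 1) ip9 1) = true := by decide +kernel

theorem rot9_1r : band (Rule.ok (2 * 0) EX RL ⟨9 :: [4], [], 53, false⟩) (lall (memL L) [4]) = true := by decide +kernel

theorem cov9 : T.cover 9 [(sel (ones 1) ip9 1)] = true := by decide +kernel

theorem tl9 : Nat.beq (T.let 9).tt 0 = true := by decide +kernel

theorem rot10_1 : T.rot 10 [9, 6, 8] (sel (ones 1) ip10 1) = true := by decide +kernel

theorem rot10_1r : band (Rule.ok (2 * 0) EX RL ⟨10 :: [9, 6, 8], [], 52, false⟩) (lall (memL L) [9, 6, 8]) = true := by decide +kernel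

theorem cov10 : T.cover 10 [(sel (ones 1) ip10 1)] = true := by decide +kernel

theorem tl10 : Nat.beq (T.let 10).tt 0 = true := by decide +kernel

end Cfsg.Agent.Spor.LyN1
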