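import Cfsg.Agent.Spor.Cert
import Cfsg.Agent.Spor.LyN1.C0

set_option autoImplicit false
set_option maxRecDepth 100000000
set_option Elab.async false
set_option linter.unusedSectionVars false

namespace Cfsg.Agent.Spor.LyN1

theorem hT : T.Ok 1 := T.ok_of 1 (show AllP (fun n => Net.okb 1 n = true) [n0, n1, n2, n3, n4] from AllP.cons ok0 (AllP.cons ok1 (AllP.cons ok2 (AllP.cons ok3 (AllP.cons ok4 (AllP.nil))))))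

noncomputable def fP : ℕ → Equiv.Perm ℕ := T.fP gs

theorem hsq : ∀ j < 0, j < 5 → T.fP gs j * T.fP gs j = 1 :=
  Tab.sq (show AllP (fun z => evA T.τ [z, z] = 1) [] from AllP.nil) 5 rfl

theorem hiv : IvOk (2 * 0) (atm 5 (T.fP gs)) := ivOk_atm hsq

theorem pz1 : PZ T (atm 5 (T.fP gs)) EX 1 := PZ.of_atom (y := 2 * 0) (by decide +kernel) (atm_two_mul _ (by decide))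
theorem pz2 : PZ T (atm 5 (T.fP gs)) EX 2 := PZ.of_atom (y := 2 * 1) (by decide +kernel) (atm_two_mul _ (by decide))
theorem pz3 : PZ T (atm 5 (T.fP gs)) EX 3 := PZ.of_atom (y := 2 * 2) (by decide +kernel) (atm_two_mul _ (by decide))
theorem pz4 : PZ T (atm 5 (T.fP gs)) EX 4 := PZ.of_atom (y := 2 * 3) (by decide +kernel) (atm_two_mul _ (by decide))
theorem pz5 : PZ T (atm 5 (T.fP gs)) EX 5 := PZ.of_atom (y := 2 * 4) (by decide +kernel) (atm_two_mul _ (by decide))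
theorem pz6 : PZ T (atm 5 (T.fP gs)) EX 6 := PZ.of_inv hiv pz1 (by decide +kernel)
theorem pz7 : PZ T (atm 5 (T.fP gs)) EX 7 := PZ.of_inv hiv pz2 (by decide +kernel)
theorem pz8 : PZ T (atm 5 (T.fP gs)) EX 8 := PZ.of_inv hiv pz3 (by decide +kernel)
theorem pz9 : PZ T (atm 5 (T.fP gs)) EX 9 := PZ.of_inv hiv pz4 (by decide +kernel)
theorem pz10 : PZ T (atm 5 (T.fP gs)) EX 10 := PZ.of_inv hiv pz5 (by decide +kernel)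
theorem hPZ : AllP (PZ T (atm 5 (T.fP gs)) EX) L :=
  show AllP (PZ T (atm 5 (T.fP gs)) EX) [1, 2, 3, 4, 5, 6, 7, 8, 9, 10] from AllP.cons pz1 (AllP.cons pz2 (AllP.cons pz3 (AllP.cons pz4 (AllP.cons pz5 (AllP.cons pz6 (AllP.cons pz7 (AllP.cons pz8 (AllP.cons pz9 (AllP.cons pz10 (AllP.nil))))))))))

theorem hrel : ∀ l ∈ RL, ev (atm 5 (T.fP gs)) l = 1 :=
  relAll_sound hiv (W := [[1, 1, 1, 1, 1, 1, 1, 1], [2, 2, 2, 2, 2], [2, 1, 2, 1, 2, 1, 2, 1], [2, 1, 1, 7, 6, 6], [2, 1, 7, 6, 2, 1, 7, 6, 2, 1, 7, 6], [3, 3, 3, 3, 3], [1, 3, 6, 3, 1, 8, 6, 8, 1, 3, 6, 3, 1, 8, 6, 8, 1, 3, 6, 3, 1, 8, 6, 8, 1, 3, 6, 3, 1, 8, 6, 8, 1, 3, 6, 3, 1, 8, 6, 8], [1, 3, 6, 3, 1, 8, 6, 3, 1, 3, 6, 8, 1, 8, 6, 8], [1, 3, 6, 3, 1, 8,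 6, 8, 1, 3, 6, 3, 1, 3, 6, 8, 1, 8, 8, 6], [1, 3, 6, 3, 1, 8, 6, 8, 2, 3, 7, 3, 1, 3, 6, 8, 1, 8, 6, 2, 8, 7], [1, 3, 6, 3, 1, 8, 6, 8, 7, 3, 2, 3, 1, 3, 6, 8, 1, 8, 6, 7, 8, 2], [1, 3, 6, 3, 1, 8, 6, 8, 1, 3, 6, 3, 1, 8, 6, 8, 2, 3, 7, 3, 2, 8, 7, 8], [3, 1, 3, 6, 8, 1, 8, 6, 3, 1, 3, 6, 8, 1, 8, 6, 7, 3, 2, 3, 7, 8, 2, 8], [1, 3, 6, 3, 1, 8, 6, 8, 2, 3, 7, 1, 3, 6, 2, 8, 7, 1, 8, 6], [7, 3, 2, 1, 3, 6, 7, 8, 2, 1, 8, 6], [1, 3, 6, 3, 1, 8, 6, 8, 7, 3, 2, 2, 3, 7, 7, 8, 2, 2, 8, 7], [3, 3, 1, 1, 3, 6, 6], [2, 3, 3, 7, 8, 7, 8, 2, 1, 2, 3, 7, 6], [8, 1, 3, 6, 2, 3, 7, 7, 8, 2, 8, 7, 8, 2, 1, 7, 3, 2, 6], [3, 1, 3, 6, 8, 1, 8, 6, 3, 1, 3, 6, 8, 1, 8, 1, 3, 6, 3, 1, 8, 6, 8, 6], [1, 8, 6, 2, 8, 7, 7, 3, 2,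 3, 7, 3, 2, 2, 1, 3, 6, 7], [8, 8, 7, 8, 2, 2, 3, 3, 2, 3, 7, 7], [3, 1, 3, 6, 8, 1, 8, 6, 2, 1, 3, 6, 3, 1, 8, 6, 8, 7], [4, 3, 4, 7, 1, 2, 3, 4, 1, 3, 6, 3, 1, 8, 6, 7, 7, 4, 3, 4, 7, 1, 2, 3, 4, 1, 3, 6, 3, 1, 8, 6, 7, 7], [8, 7, 7, 3, 4, 3, 4, 7, 1, 2, 3, 4, 1, 3, 6, 3, 1, 8, 6, 7, 7, 3, 2, 2, 1, 3, 6, 8, 1, 8, 6, 9, 8, 7, 6, 2, 9, 8, 9], [7, 7, 8, 6, 3, 7, 3, 2, 1, 4, 3, 4, 7, 1, 2, 3, 4, 1, 3, 6, 3, 1, 8, 6, 7, 3, 2, 1, 3, 6, 8, 1, 8, 6, 9, 8, 7, 6, 2, 9, 8, 9], [7, 3, 7, 7, 8, 2, 4, 3, 4, 7, 1, 2, 3, 4, 1, 3, 6, 3, 1, 8, 6, 7, 7, 7, 3, 2, 2, 2, 1, 3, 6, 8, 1, 8, 6, 9, 8, 7, 6, 2, 9, 8, 9], [8, 2, 3, 7, 8, 7, 3, 2, 4, 3, 4, 7, 1, 2, 3, 4, 1, 3, 6, 3, 1, 8, 6, 7, 7, 1, 3, 6, 3, 1, 8, 6, 8, 2, 2, 1, 3,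 6, 8, 1, 8, 6, 9, 8, 7, 6, 2, 9, 8, 9], [6, 7, 7, 6, 2, 3, 6, 8, 1, 8, 6, 7, 3, 2, 4, 3, 4, 7, 1, 2, 3, 4, 1, 3, 6, 3, 1, 8, 6, 7, 7, 1, 1, 4, 3, 4, 7, 1, 2, 3, 4, 1, 3, 6, 3, 1, 8, 6, 7, 7], [8, 2, 3, 7, 7, 3, 3, 2, 4, 3, 4, 7, 1, 2, 3, 4, 1, 3, 6, 3, 1, 8, 6, 2, 1, 3, 6, 8, 1, 8, 6, 9, 8, 7, 6, 2, 9, 8, 9], [6, 3, 6, 8, 1, 8, 6, 7, 3, 2, 4, 3, 4, 7, 1, 2, 3, 4, 1, 3, 6, 3, 1, 8, 6, 7, 7, 1, 7, 1, 2, 2, 1, 4, 3, 4, 7, 1, 2, 3, 4, 1, 3, 6, 3, 1, 8, 6, 7, 7], [1, 1, 1, 2, 3, 7, 1, 7, 8, 2, 1, 3, 6, 4, 3, 4, 7, 1, 2, 3, 4, 1, 3, 6, 3, 1, 8, 6, 7, 7, 1, 8, 6, 4, 3, 4, 7, 1, 2, 3, 4, 1, 3, 6, 3, 1, 8, 6, 7, 7, 1, 3, 6, 4, 3, 4, 7, 1, 2, 3, 4, 1, 3, 6, 3, 1, 8, 6, 7, 7], [6, 7, 7, 1, 2, 3, 7, 3, 2, 1, 3, 6, 3,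 1, 8, 6, 8, 6, 2, 2, 1, 3, 6, 8, 1, 8, 6, 9, 8, 7, 6, 2, 9, 8, 9, 6, 2, 2, 1, 3, 6, 8, 1, 8, 6, 9, 8, 7, 6, 2, 9, 8, 9, 3, 6, 2, 1, 3, 6, 8, 1, 8, 6, 9, 8, 7, 6, 2, 9, 8], [6, 6, 6, 6, 4, 4], [4, 2, 9, 7], [6, 6, 6, 4, 1, 9], [1, 3, 6, 3, 1, 8, 6, 8, 4, 1, 3, 6, 3, 1, 8, 6, 8, 4, 1, 3, 6, 3, 1, 8, 6, 8, 4, 1, 3, 6, 3, 1, 8, 6, 8, 4, 1, 3, 6, 3, 1, 8, 6, 8, 4], [6, 3, 6, 3, 1, 8, 6, 8, 4, 3, 1, 3, 6, 8, 1, 8, 6, 4, 1, 3, 6, 3, 1, 8, 6, 8, 4], [1, 2, 1, 7, 3, 2, 6, 3, 7, 6, 5, 3, 10], [2, 2, 6, 8, 1, 7, 8, 7, 5, 1, 3, 6, 10], [1, 2, 1, 8, 6, 7, 6, 5, 2, 3, 7, 10], [2, 1, 7, 8, 2, 6, 7, 5, 7, 3, 2, 10], [7, 7, 1, 2, 8, 7, 6, 8, 2, 2, 3, 5, 1, 3, 6, 3, 1, 8, 6, 8, 10], [1, 1, 1, 5, 1, 10], [7, 1, 2, 1, 1, 5,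 7, 1, 2, 10], [6, 7, 7, 6, 2, 2, 1, 5, 7, 7, 1, 2, 2, 10], [6, 6, 5, 5], [1, 1, 5, 2, 2, 1, 7, 7, 5, 2, 2, 1, 7, 7, 5, 2, 2, 1, 7, 7], [5, 7, 7, 6, 7, 8, 7, 7, 3, 1, 8, 6, 9, 8, 1, 7, 8, 1, 9, 8, 6, 5, 7, 1, 2, 1, 7, 1, 8, 6, 7, 8, 2, 9, 8, 2, 6, 8, 7, 4, 6, 5, 9, 8, 2, 6, 8, 6, 9, 8], [3, 2, 3, 4, 7, 7, 3, 4, 7, 3, 2, 3, 1, 8, 2, 2, 6, 2, 2, 6, 2, 1, 5, 4, 5, 7, 1, 7, 7, 1, 7, 8, 7, 6, 2, 9, 8, 7, 6, 2, 9, 8, 6, 10, 9, 10], [6, 2, 6, 7, 7, 6, 3, 6, 7, 1, 9, 8, 6, 3, 2, 3, 1, 9, 10, 7, 6, 2, 1, 2, 2, 1, 2, 8, 7, 7, 8, 7, 9, 8, 2, 2, 9, 8, 7, 8, 10, 9, 7, 3, 6, 3, 1, 3, 4, 8, 8, 6, 2, 8, 2, 3, 6, 7, 7, 1, 5, 3, 2, 3, 4, 7, 7, 3, 4, 2, 3, 2, 2, 3, 7, 6, 7, 7, 6, 7, 1, 2, 5], [2, 6, 7, 6, 7, 3, 1, 3, 6, 3, 9,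 8, 2, 3, 6, 8, 10, 7, 9, 10, 2, 3, 6, 2, 2, 8, 4, 8, 6, 3, 1, 8, 2, 2, 6, 7, 6, 2, 2, 5, 4, 2, 5], [3, 1, 4, 5]]) (rules := [⟨[1, 1, 1, 1, 1, 1, 1, 1], [], 0, true⟩, ⟨[2, 2, 2, 2, 2], [], 1, true⟩, ⟨[2, 1, 2, 1, 2, 1, 2, 1], [], 2, true⟩, ⟨[2, 1, 1, 7, 6, 6], [], 3, true⟩, ⟨[2, 1, 7, 6, 2, 1, 7, 6, 2, 1, 7, 6], [], 4, true⟩, ⟨[3, 3, 3, 3, 3], [], 5, true⟩, ⟨[1, 3, 6, 3, 1, 8, 6, 8, 1, 3, 6, 3, 1, 8, 6, 8, 1, 3, 6, 3, 1, 8, 6, 8, 1, 3, 6, 3, 1, 8, 6, 8, 1, 3, 6, 3, 1, 8, 6, 8], [], 6, true⟩, ⟨[1, 3, 6, 3, 1, 8, 6, 3, 1, 3, 6, 8, 1, 8, 6, 8], [], 7, true⟩, ⟨[1, 3, 6, 3, 1, 8, 6, 8, 1, 3, 6, 3, 1, 3, 6, 8, 1, 8, 8, 6], [], 8, true⟩, ⟨[1, 3, 6, 3, 1, 8, 6, 8, 2, 3, 7, 3, 1, 3, 6, 8, 1, 8, 6, 2, 8, 7], [], 9,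 true⟩, ⟨[1, 3, 6, 3, 1, 8, 6, 8, 7, 3, 2, 3, 1, 3, 6, 8, 1, 8, 6, 7, 8, 2], [], 10, true⟩, ⟨[1, 3, 6, 3, 1, 8, 6, 8, 1, 3, 6, 3, 1, 8, 6, 8, 2, 3, 7, 3, 2, 8, 7, 8], [], 11, true⟩, ⟨[3, 1, 3, 6, 8, 1, 8, 6, 3, 1, 3, 6, 8, 1, 8, 6, 7, 3, 2, 3, 7, 8, 2, 8], [], 12, true⟩, ⟨[1, 3, 6, 3, 1, 8, 6, 8, 2, 3, 7, 1, 3, 6, 2, 8, 7, 1, 8, 6], [], 13, true⟩, ⟨[7, 3, 2, 1, 3, 6, 7, 8, 2, 1, 8, 6], [], 14, true⟩, ⟨[1, 3, 6, 3, 1, 8, 6, 8, 7, 3, 2, 2, 3, 7, 7, 8, 2, 2, 8, 7], [], 15, true⟩, ⟨[3, 3, 1, 1, 3, 6, 6], [], 16, true⟩, ⟨[2, 3, 3, 7, 8, 7, 8, 2, 1, 2, 3, 7, 6], [], 17, true⟩, ⟨[8, 1, 3, 6, 2, 3, 7, 7, 8, 2, 8, 7, 8, 2, 1, 7, 3, 2, 6], [], 18, true⟩, ⟨[3, 1, 3, 6, 8, 1, 8, 6, 3, 1, 3, 6, 8, 1, 8, 1, 3, 6, 3, 1,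 8, 6, 8, 6], [], 19, true⟩, ⟨[1, 8, 6, 2, 8, 7, 7, 3, 2, 3, 7, 3, 2, 2, 1, 3, 6, 7], [], 20, true⟩, ⟨[8, 8, 7, 8, 2, 2, 3, 3, 2, 3, 7, 7], [], 21, true⟩, ⟨[3, 1, 3, 6, 8, 1, 8, 6, 2, 1, 3, 6, 3, 1, 8, 6, 8, 7], [], 22, true⟩, ⟨[4, 3, 4, 7, 1, 2, 3, 4, 1, 3, 6, 3, 1, 8, 6, 7, 7, 4, 3, 4, 7, 1, 2, 3, 4, 1, 3, 6, 3, 1, 8, 6, 7, 7], [], 23, true⟩, ⟨[8, 7, 7, 3, 4, 3, 4, 7, 1, 2, 3, 4, 1, 3, 6, 3, 1, 8, 6, 7, 7, 3, 2, 2, 1, 3, 6, 8, 1, 8, 6, 9, 8, 7, 6, 2, 9, 8, 9], [], 24, true⟩, ⟨[7, 7, 8, 6, 3, 7, 3, 2, 1, 4, 3, 4, 7, 1, 2, 3, 4, 1, 3, 6, 3, 1, 8, 6, 7, 3, 2, 1, 3, 6, 8, 1, 8, 6, 9, 8, 7, 6, 2, 9, 8, 9], [], 25, true⟩, ⟨[7, 3, 7, 7, 8, 2, 4, 3, 4, 7, 1, 2, 3, 4, 1, 3, 6, 3, 1, 8, 6, 7, 7, 7, 3, 2, 2, 2, 1,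 3, 6, 8, 1, 8, 6, 9, 8, 7, 6, 2, 9, 8, 9], [], 26, true⟩, ⟨[8, 2, 3, 7, 8, 7, 3, 2, 4, 3, 4, 7, 1, 2, 3, 4, 1, 3, 6, 3, 1, 8, 6, 7, 7, 1, 3, 6, 3, 1, 8, 6, 8, 2, 2, 1, 3, 6, 8, 1, 8, 6, 9, 8, 7, 6, 2, 9, 8, 9], [], 27, true⟩, ⟨[6, 7, 7, 6, 2, 3, 6, 8, 1, 8, 6, 7, 3, 2, 4, 3, 4, 7, 1, 2, 3, 4, 1, 3, 6, 3, 1, 8, 6, 7, 7, 1, 1, 4, 3, 4, 7, 1, 2, 3, 4, 1, 3, 6, 3, 1, 8, 6, 7, 7], [], 28, true⟩, ⟨[8, 2, 3, 7, 7, 3, 3, 2, 4, 3, 4, 7, 1, 2, 3, 4, 1, 3, 6, 3, 1, 8, 6, 2, 1, 3, 6, 8, 1, 8, 6, 9, 8, 7, 6, 2, 9, 8, 9], [], 29, true⟩, ⟨[6, 3, 6, 8, 1, 8, 6, 7, 3, 2, 4, 3, 4, 7, 1, 2, 3, 4, 1, 3, 6, 3, 1, 8, 6, 7, 7, 1, 7, 1, 2, 2, 1, 4, 3, 4, 7, 1, 2, 3, 4, 1, 3, 6, 3, 1, 8, 6, 7, 7], [], 30, true⟩, ⟨[1, 1, 1, 2, 3,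 7, 1, 7, 8, 2, 1, 3, 6, 4, 3, 4, 7, 1, 2, 3, 4, 1, 3, 6, 3, 1, 8, 6, 7, 7, 1, 8, 6, 4, 3, 4, 7, 1, 2, 3, 4, 1, 3, 6, 3, 1, 8, 6, 7, 7, 1, 3, 6, 4, 3, 4, 7, 1, 2, 3, 4, 1, 3, 6, 3, 1, 8, 6, 7, 7], [], 31, true⟩, ⟨[6, 7, 7, 1, 2, 3, 7, 3, 2, 1, 3, 6, 3, 1, 8, 6, 8, 6, 2, 2, 1, 3, 6, 8, 1, 8, 6, 9, 8, 7, 6, 2, 9, 8, 9, 6, 2, 2, 1, 3, 6, 8, 1, 8, 6, 9, 8, 7, 6, 2, 9, 8, 9, 3, 6, 2, 1, 3, 6, 8, 1, 8, 6, 9, 8, 7, 6, 2, 9, 8], [], 32, true⟩, ⟨[6, 6, 6, 6, 4, 4], [], 33, true⟩, ⟨[4, 2, 9, 7], [], 34, true⟩, ⟨[6, 6, 6, 4, 1, 9], [], 35, true⟩, ⟨[1, 3, 6, 3, 1, 8, 6, 8, 4, 1, 3, 6, 3, 1, 8, 6, 8, 4, 1, 3, 6, 3, 1, 8, 6, 8, 4, 1, 3, 6, 3, 1, 8, 6, 8, 4, 1, 3, 6, 3, 1, 8, 6, 8, 4], [], 36, true⟩, ⟨[6, 3, 6, 3, 1, 8,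 6, 8, 4, 3, 1, 3, 6, 8, 1, 8, 6, 4, 1, 3, 6, 3, 1, 8, 6, 8, 4], [], 37, true⟩, ⟨[1, 2, 1, 7, 3, 2, 6, 3, 7, 6, 5, 3, 10], [], 38, true⟩, ⟨[2, 2, 6, 8, 1, 7, 8, 7, 5, 1, 3, 6, 10], [], 39, true⟩, ⟨[1, 2, 1, 8, 6, 7, 6, 5, 2, 3, 7, 10], [], 40, true⟩, ⟨[2, 1, 7, 8, 2, 6, 7, 5, 7, 3, 2, 10], [], 41, true⟩, ⟨[7, 7, 1, 2, 8, 7, 6, 8, 2, 2, 3, 5, 1, 3, 6, 3, 1, 8, 6, 8, 10], [], 42, true⟩, ⟨[1, 1, 1, 5, 1, 10], [], 43, true⟩, ⟨[7, 1, 2, 1, 1, 5, 7, 1, 2, 10], [], 44, true⟩, ⟨[6, 7, 7, 6, 2, 2, 1, 5, 7, 7, 1, 2, 2, 10], [], 45, true⟩, ⟨[6, 6, 5, 5], [], 46, true⟩, ⟨[1, 1, 5, 2, 2, 1, 7, 7, 5, 2, 2, 1, 7, 7, 5, 2, 2, 1, 7, 7], [], 47, true⟩, ⟨[5, 7, 7, 6, 7, 8, 7, 7, 3, 1, 8, 6, 9, 8, 1, 7, 8, 1, 9, 8, 6, 5, 7, 1,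 2, 1, 7, 1, 8, 6, 7, 8, 2, 9, 8, 2, 6, 8, 7, 4, 6, 5, 9, 8, 2, 6, 8, 6, 9, 8], [], 48, true⟩, ⟨[3, 2, 3, 4, 7, 7, 3, 4, 7, 3, 2, 3, 1, 8, 2, 2, 6, 2, 2, 6, 2, 1, 5, 4, 5, 7, 1, 7, 7, 1, 7, 8, 7, 6, 2, 9, 8, 7, 6, 2, 9, 8, 6, 10, 9, 10], [], 49, true⟩, ⟨[6, 2, 6, 7, 7, 6, 3, 6, 7, 1, 9, 8, 6, 3, 2, 3, 1, 9, 10, 7, 6, 2, 1, 2, 2, 1, 2, 8, 7, 7, 8, 7, 9, 8, 2, 2, 9, 8, 7, 8, 10, 9, 7, 3, 6, 3, 1, 3, 4, 8, 8, 6, 2, 8, 2, 3, 6, 7, 7, 1, 5, 3, 2, 3, 4, 7, 7, 3, 4, 2, 3, 2, 2, 3, 7, 6, 7, 7, 6, 7, 1, 2, 5], [], 50, true⟩, ⟨[2, 6, 7, 6, 7, 3, 1, 3, 6, 3, 9, 8, 2, 3, 6, 8, 10, 7, 9, 10, 2, 3, 6, 2, 2, 8, 4, 8, 6, 3, 1, 8, 2, 2, 6, 7, 6, 2, 2, 5, 4, 2, 5], [], 51, true⟩, ⟨[3, 1, 4, 5], [], 52, true⟩]) hPZ (AllP.cons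 (hT.one rel0) (AllP.cons (hT.one rel1) (AllP.cons (hT.one rel2) (AllP.cons (hT.one rel3) (AllP.cons (hT.one rel4) (AllP.cons (hT.one rel5) (AllP.cons (hT.one rel6) (AllP.cons (hT.one rel7) (AllP.cons (hT.one rel8) (AllP.cons (hT.one rel9) (AllP.cons (hT.one rel10) (AllP.cons (hT.one rel11) (AllP.cons (hT.one rel12) (AllP.cons (hT.one rel13) (AllP.cons (hT.one rel14) (AllP.cons (hT.one rel15) (AllP.cons (hT.one rel16) (AllP.cons (hT.one rel17) (AllP.cons (hT.one rel18) (AllP.cons (hT.one rel19) (AllP.cons (hT.one rel20) (AllP.cons (hT.one rel21) (AllP.cons (hT.one rel22) (AllP.cons (hT.one rel23) (AllP.cons (hT.one rel24) (AllP.cons (hT.one rel25) (AllP.cons (hT.one rel26) (AllP.cons (hT.one rel27) (AllP.cons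 (hT.one rel28) (AllP.cons (hT.one rel29) (AllP.cons (hT.one rel30) (AllP.cons (hT.one rel31) (AllP.cons (hT.one rel32) (AllP.cons (hT.one rel33) (AllP.cons (hT.one rel34) (AllP.cons (hT.one rel35) (AllP.cons (hT.one rel36) (AllP.cons (hT.one rel37) (AllP.cons (hT.one rel38) (AllP.cons (hT.one rel39) (AllP.cons (hT.one rel40) (AllP.cons (hT.one rel41) (AllP.cons (hT.one rel42) (AllP.cons (hT.one rel43) (AllP.cons (hT.one rel44) (AllP.cons (hT.one rel45) (AllP.cons (hT.one rel46) (AllP.cons (hT.one rel47) (AllP.cons (hT.one rel48) (AllP.cons (hT.one rel49) (AllP.cons (hT.one rel50) (AllP.cons (hT.one rel51) (AllP.cons (hT.one rel52) (AllP.nil)))))))))))))))))))))))))))))))))))))))))))))))))))))) (by decide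 +kernel)

theorem hst : StepsOk F IV RT base 100 368 := (steps_sound' st0)

section
variable {G : Type} [Group G] {a : ℕ → G} (hi : IvOk (2 * 0) a) (hR : ∀ r ∈ RL, ev a r = 1)
  {H : Subgroup G} (hb : ∀ z ∈ base, letV a EX z ∈ H)
include hi hR hb

theorem let1 : LetOk H (letV a EX) T L 1 :=
  LetOk.of' hT tl1 cov1 (AllP.cons (Just.epi hT hi ep0a ep0b (seq_mem hi hR rfl hivk hrt H hb hdefs hst ep0c) ep0d) (AllP.nil))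
theorem let2 : LetOk H (letV a EX) T L 2 :=
  LetOk.of' hT tl2 cov2 (AllP.cons (Just.epi hT hi ep1a ep1b (seq_mem hi hR rfl hivk hrt H hb hdefs hst ep1c) ep1d) (AllP.nil))
theorem let3 : LetOk H (letV a EX) T L 3 :=
  LetOk.of' hT tl3 cov3 (AllP.cons (Just.epi hT hi ep2a ep2b (seq_mem hi hR rfl hivk hrt H hb hdefs hst ep2c) ep2d) (AllP.nil))
theorem let4 : LetOk H (letV a EX) T L 4 :=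
  LetOk.of' hT tl4 cov4 (AllP.cons (Just.epi hT hi ep3a ep3b (seq_mem hi hR rfl hivk hrt H hb hdefs hst ep3c) ep3d) (AllP.nil))
theorem let5 : LetOk H (letV a EX) T L 5 :=
  LetOk.of' hT tl5 cov5 (AllP.cons (Just.rot hT hi hR rot5_1 rot5_1r) (AllP.nil))
theorem let6 : LetOk H (letV a EX) T L 6 :=
  LetOk.of' hT tl6 cov6 (AllP.cons (Just.rot hT hi hR rot6_1 rot6_1r) (AllP.nil))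
theorem let7 : LetOk H (letV a EX) T L 7 :=
  LetOk.of' hT tl7 cov7 (AllP.cons (Just.rot hT hi hR rot7_1 rot7_1r) (AllP.nil))
theorem let8 : LetOk H (letV a EX) T L 8 :=
  LetOk.of' hT tl8 cov8 (AllP.cons (Just.rot hT hi hR rot8_1 rot8_1r) (AllP.nil))
theorem let9 : LetOk H (letV a EX) T L 9 :=
  LetOk.of' hT tl9 cov9 (AllP.cons (Just.rot hT hi hR rot9_1 rot9_1r) (AllP.nil))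
theorem let10 : LetOk H (letV a EX) T L 10 :=
  LetOk.of' hT tl10 cov10 (AllP.cons (Just.rot hT hi hR rot10_1 rot10_1r) (AllP.nil))
theorem hlet : AllP (LetOk H (letV a EX) T L) L :=
  show AllP (LetOk H (letV a EX) T L) [1, 2, 3, 4, 5, 6, 7, 8, 9, 10] from AllP.cons (let1 hi hR hb) (AllP.cons (let2 hi hR hb) (AllP.cons (let3 hi hR hb) (AllP.cons (let4 hi hR hb) (AllP.cons (let5 hi hR hb) (AllP.cons (let6 hi hR hb) (AllP.cons (let7 hi hR hb) (AllP.cons (let8 hi hR hb) (AllP.cons (let9 hi hR hb) (AllP.cons (let10 hi hR hb) (AllP.nil))))))))))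
end

theorem cert : Cert 5 0 RL BW fP 1 :=
  Cert.of hT ⟨hsq, hrel⟩ hPZ (fun _ _ _ hi hR _ hb => hlet hi hR hb) hcov hg (by decide +kernel)

end Cfsg.Agent.Spor.LyN1
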